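import Cfsg.Agent.Lib.GLOrder.Basic
import Mathlib.FieldTheory.Finite.GaloisField

/-!
# Groups of order 64 with a fixed point free automorphism of order 3

* `Rel`: generators and relations of a Sylow 2-subgroup of `PSL₃(4)`.
* `Rel.equiv`: two groups of order 64 with such generators are isomorphic.
* `exists_sylow_equiv`: such a group is a Sylow 2-subgroup of `PSL₃(4)`.
* `FPF`: consequences of a fixed point free automorphism of order 3; `FPF.rel`.
-/

set_option autoImplicit false
set_option linter.unusedSectionVars false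

open scoped commutatorElement

namespace Cfsg.Agent.SylowL34

variable {T : Type*} [Group T]

/-- Coordinates of the model. -/
abbrev Tri := (ZMod 2 × ZMod 2) × (ZMod 2 × ZMod 2) × (ZMod 2 × ZMod 2)

/-- The product of the model. -/
def triMul (p q : Tri) : Tri :=
  (p.1 + q.1, p.2.1 + q.2.1,
    (p.2.2.1 + q.2.2.1 + (p.1.1 * q.2.1.1 + p.1.2 * q.2.1.2),
     p.2.2.2 + q.2.2.2 + (p.1.1 * q.2.1.2 + p.1.2 * q.2.1.1 + p.1.2 * q.2.1.2)))

/-- The inverse of the model. -/
def triInv (p : Tri) : Tri :=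
  (p.1, p.2.1, (p.2.2.1 + (p.1.1 * p.2.1.1 + p.1.2 * p.2.1.2),
     p.2.2.2 + (p.1.1 * p.2.1.2 + p.1.2 * p.2.1.1 + p.1.2 * p.2.1.2)))

theorem zmod_two_cases (i : ZMod 2) : i = 0 ∨ i = 1 := by revert i; decide

theorem triInv_mul (p : Tri) : triMul (triInv p) p = 0 := by
  obtain ⟨⟨a0, a1⟩, ⟨b0, b1⟩, ⟨c0, c1⟩⟩ := p
  have h2 : (2 : ZMod 2) = 0 := rfl
  simp only [triMul, triInv, Prod.mk_add_mk, Prod.mk_eq_zero]
  refine ⟨⟨?_, ?_⟩, ⟨?_, ?_⟩, ?_, ?_⟩
  · linear_combination a0 * h2
  · linear_combination a1 * h2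
  · linear_combination b0 * h2
  · linear_combination b1 * h2
  · linear_combination (c0 + a0 * b0 + a1 * b1) * h2
  · linear_combination (c1 + a0 * b1 + a1 * b0 + a1 * b1) * h2

theorem eq_of_triInv_mul {p q : Tri} (h : triMul (triInv p) q = 0) : p = q := by
  obtain ⟨⟨a0, a1⟩, ⟨b0, b1⟩, ⟨c0, c1⟩⟩ := p
  obtain ⟨⟨a0', a1'⟩, ⟨b0', b1'⟩, ⟨c0', c1'⟩⟩ := q
  have h2 : (2 : ZMod 2) = 0 := rfl
  simp only [triMul, triInv, Prod.mk_add_mk, Prod.mk_eq_zero] at h
  obtain ⟨⟨e1, e2⟩, ⟨e3, e4⟩, e5, e6⟩ := h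
  have f1 : a0 = a0' := by linear_combination e1 - a0' * h2
  have f2 : a1 = a1' := by linear_combination e2 - a1' * h2
  have f3 : b0 = b0' := by linear_combination e3 - b0' * h2
  have f4 : b1 = b1' := by linear_combination e4 - b1' * h2
  subst f1 f2 f3 f4
  have f5 : c0 = c0' := by linear_combination e5 - (c0' + a0 * b0 + a1 * b1) * h2
  have f6 : c1 = c1' := by linear_combination e6 - (c1' + a0 * b1 + a1 * b0 + a1 * b1) * h2
  subst f5 f6
  rfl

theorem card_tri : Nat.card Tri = 64 := by simp [Tri]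

/-- Generators satisfying the relations of a Sylow 2-subgroup of `PSL₃(4)`. -/
structure Rel (T : Type*) [Group T] where
  a : T
  a' : T
  b : T
  b' : T
  z : T
  z' : T
  ha : a * a = 1
  ha' : a' * a' = 1
  hb : b * b = 1
  hb' : b' * b' = 1
  hz : z * z = 1
  hz' : z' * z' = 1
  haa : Commute a a'
  hbb : Commute b b'
  hcz : ∀ g ∈ ({a, a', b, b', z, z'} : Set T), Commute z g
  hcz' : ∀ g ∈ ({a, a', b, b', z, z'} : Set T), Commute z' g
  hab : a * b = z * (b * a)
  hab' : a * b' = z' * (b' * a)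
  ha'b : a' * b = z' * (b * a')
  ha'b' : a' * b' = z * z' * (b' * a')
  z_ne : z ≠ 1
  z'_ne : z' ≠ 1
  zz_ne : z ≠ z'

/-- Powers with exponent in `ZMod 2`. -/
def pw (g : T) (i : ZMod 2) : T := g ^ i.val

theorem pw_zero (g : T) : pw g 0 = 1 := by simp [pw]
theorem pw_one (g : T) : pw g 1 = g := by simp [pw, ZMod.val_one]

theorem pw_add {g : T} (hg : g * g = 1) (i j : ZMod 2) : pw g (i + j) = pw g i * pw g j := by
  rcases zmod_two_cases i with rfl | rfl <;> rcases zmod_two_cases j with rfl | rfl <;>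
    simp [pw_zero, pw_one, hg, show (1 : ZMod 2) + 1 = 0 from rfl]

namespace Rel

variable (R : Rel T)

/-- The central part. -/
def C (c : ZMod 2 × ZMod 2) : T := pw R.z c.1 * pw R.z' c.2
/-- The first abelian part. -/
def A (c : ZMod 2 × ZMod 2) : T := pw R.a c.1 * pw R.a' c.2
/-- The second abelian part. -/
def B (c : ZMod 2 × ZMod 2) : T := pw R.b c.1 * pw R.b' c.2

/-- The parametrisation. -/
def Φ (p : Tri) : T := R.B p.2.1 * R.A p.1 * R.C p.2.2

theorem commute_C (c : ZMod 2 × ZMod 2) {g : T} (hz : Commute R.z g) (hz' : Commute R.z' g) :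
    Commute (R.C c) g := (hz.pow_left _).mul_left (hz'.pow_left _)

theorem pairAdd {g h : T} (hg : g * g = 1) (hh : h * h = 1) (hgh : Commute g h)
    (c d : ZMod 2 × ZMod 2) :
    pw g (c + d).1 * pw h (c + d).2 = (pw g c.1 * pw h c.2) * (pw g d.1 * pw h d.2) := by
  rw [Prod.fst_add, Prod.snd_add, pw_add hg, pw_add hh]
  calc pw g c.1 * pw g d.1 * (pw h c.2 * pw h d.2)
      = pw g c.1 * (pw g d.1 * pw h c.2) * pw h d.2 := by group
    _ = pw g c.1 * (pw h c.2 * pw g d.1) * pw h d.2 := by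
      rw [show pw g d.1 * pw h c.2 = pw h c.2 * pw g d.1 from (hgh.pow_pow _ _).eq]
    _ = _ := by group

theorem C_add (c d : ZMod 2 × ZMod 2) : R.C (c + d) = R.C c * R.C d :=
  pairAdd R.hz R.hz' (R.hcz R.z' (by simp)) c d
theorem A_add (c d : ZMod 2 × ZMod 2) : R.A (c + d) = R.A c * R.A d :=
  pairAdd R.ha R.ha' R.haa c d
theorem B_add (c d : ZMod 2 × ZMod 2) : R.B (c + d) = R.B c * R.B d :=
  pairAdd R.hb R.hb' R.hbb c d

theorem commute_C_A (c d : ZMod 2 × ZMod 2) : Commute (R.C c) (R.A d) :=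
  ((R.commute_C c (R.hcz R.a (by simp)) (R.hcz' R.a (by simp))).pow_right _).mul_right
    ((R.commute_C c (R.hcz R.a' (by simp)) (R.hcz' R.a' (by simp))).pow_right _)

theorem commute_C_B (c d : ZMod 2 × ZMod 2) : Commute (R.C c) (R.B d) :=
  ((R.commute_C c (R.hcz R.b (by simp)) (R.hcz' R.b (by simp))).pow_right _).mul_right
    ((R.commute_C c (R.hcz R.b' (by simp)) (R.hcz' R.b' (by simp))).pow_right _)

theorem A_B (α β : ZMod 2 × ZMod 2) :
    R.A α * R.B β =
      R.C (α.1 * β.1 + α.2 * β.2, α.1 * β.2 + α.2 * β.1 + α.2 * β.2) * (R.B β * R.A α) := by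
  -- moving one generator through `B β`
  have move : ∀ g u v : T, g * R.b = u * (R.b * g) → g * R.b' = v * (R.b' * g) →
      Commute v R.b → ∀ β : ZMod 2 × ZMod 2,
      g * R.B β = pw u β.1 * pw v β.2 * (R.B β * g) := by
    intro g u v h1 h2 hv β
    obtain ⟨i, j⟩ := β
    have k1 : g * pw R.b i = pw u i * (pw R.b i * g) := by
      rcases zmod_two_cases i with rfl | rfl <;> simp [pw_zero, pw_one, h1]
    have k2 : g * pw R.b' j = pw v j * (pw R.b' j * g) := by
      rcases zmod_two_cases j with rfl | rfl <;> simp [pw_zero, pw_one, h2]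
    simp only [B]
    rw [← mul_assoc, k1, mul_assoc (pw u i), mul_assoc (pw R.b i) g, k2,
      ← mul_assoc (pw R.b i) (pw v j), show pw R.b i * pw v j = pw v j * pw R.b i from ((hv.pow_pow _ _).eq).symm]
    group
  obtain ⟨i, j⟩ := α
  have hA1 := move R.a R.z R.z' R.hab R.hab' (R.hcz' R.b (by simp)) β
  have hzz : Commute (R.z * R.z') R.b := (R.hcz R.b (by simp)).mul_left (R.hcz' R.b (by simp))
  have hA2 := move R.a' R.z' (R.z * R.z') R.ha'b R.ha'b' hzz β
  have hC1 : pw R.z β.1 * pw R.z' β.2 = R.C (β.1, β.2) := rfl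
  have hC2 : pw R.z' β.1 * pw (R.z * R.z') β.2 = R.C (β.2, β.1 + β.2) := by
    simp only [C]
    have hc : Commute R.z R.z' := R.hcz R.z' (by simp)
    rw [pw_add R.hz', show pw (R.z * R.z') β.2 = pw R.z β.2 * pw R.z' β.2 from hc.mul_pow _,
      ← mul_assoc, show pw R.z' β.1 * pw R.z β.2 = pw R.z β.2 * pw R.z' β.1 from
        ((hc.pow_pow _ _).eq).symm, mul_assoc]
  rw [hC1] at hA1
  rw [hC2] at hA2
  have h0 : R.C ((0, 0) : ZMod 2 × ZMod 2) = 1 := by simp [C, pw_zero]
  change pw R.a i * pw R.a' j * R.B β = _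
  simp only [A]
  rcases zmod_two_cases i with rfl | rfl <;> rcases zmod_two_cases j with rfl | rfl <;>
    simp only [pw_zero, pw_one, one_mul, mul_one, zero_mul, zero_add, add_zero]
  · rw [h0, one_mul]
  · exact hA2
  · exact hA1
  · rw [mul_assoc R.a, hA2, ← mul_assoc R.a,
      ← ((R.commute_C _ (R.hcz R.a (by simp)) (R.hcz' R.a (by simp))).eq), mul_assoc,
      ← mul_assoc R.a, hA1, mul_assoc _ (R.B β * R.a) R.a', ← mul_assoc (R.C _) (R.C _),
      ← R.C_add, mul_assoc (R.B β)]
    congr 2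
    ext <;> simp [add_comm, add_left_comm]

theorem Φ_mul (p q : Tri) : R.Φ p * R.Φ q = R.Φ (triMul p q) := by
  obtain ⟨α, β, γ⟩ := p
  obtain ⟨α', β', γ'⟩ := q
  have h : R.A α * R.B β' = R.B β' * R.A α *
      R.C (α.1 * β'.1 + α.2 * β'.2, α.1 * β'.2 + α.2 * β'.1 + α.2 * β'.2) := by
    rw [R.A_B, ((R.commute_C_B _ _).mul_right (R.commute_C_A _ _)).eq]
  set δ := ((α.1 * β'.1 + α.2 * β'.2, α.1 * β'.2 + α.2 * β'.1 + α.2 * β'.2) : ZMod 2 × ZMod 2)
  have hγ : (triMul (α, β, γ) (α', β', γ')).2.2 = δ + (γ + γ') := by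
    ext <;> simp [triMul, δ] <;> ring
  have h3 : (triMul (α, β, γ) (α', β', γ')).1 = α + α' := rfl
  have h4 : (triMul (α, β, γ) (α', β', γ')).2.1 = β + β' := rfl
  simp only [Φ, hγ, h3, h4, R.C_add, R.A_add, R.B_add]
  calc R.B β * R.A α * R.C γ * (R.B β' * R.A α' * R.C γ')
      = R.B β * R.A α * (R.C γ * (R.B β' * R.A α')) * R.C γ' := by group
    _ = R.B β * R.A α * (R.B β' * R.A α' * R.C γ) * R.C γ' := by
        rw [((R.commute_C_B γ β').mul_right (R.commute_C_A γ α')).eq]
    _ = R.B β * (R.A α * R.B β') * R.A α' * R.C γ * R.C γ' := by group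
    _ = R.B β * R.B β' * R.A α * (R.C δ * R.A α') * R.C γ * R.C γ' := by rw [h]; group
    _ = R.B β * R.B β' * R.A α * (R.A α' * R.C δ) * R.C γ * R.C γ' := by
        rw [(R.commute_C_A δ α').eq]
    _ = _ := by group

theorem Φ_zero : R.Φ 0 = 1 := by simp [Φ, A, B, C, pw_zero]

theorem C_injective {c : ZMod 2 × ZMod 2} (h : R.C c = 1) : c = 0 := by
  obtain ⟨i, j⟩ := c
  rcases zmod_two_cases i with rfl | rfl <;> rcases zmod_two_cases j with rfl | rfl <;>
    simp only [C, pw_zero, pw_one, one_mul, mul_one] at h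
  · rfl
  · exact absurd h R.z'_ne
  · exact absurd h R.z_ne
  · refine absurd ?_ R.zz_ne
    calc R.z = R.z * (R.z' * R.z') := by rw [R.hz', mul_one]
      _ = R.z * R.z' * R.z' := by group
      _ = R.z' := by rw [h, one_mul]

theorem eq_zero_of_Φ {p : Tri} (h : R.Φ p = 1) : p = 0 := by
  have key : ∀ q : Tri, (triMul p q).2.2 = (triMul q p).2.2 := by
    intro q
    have e : R.Φ (triMul p q) = R.Φ (triMul q p) := by
      rw [← R.Φ_mul, ← R.Φ_mul, h, one_mul, mul_one]
    have e1 : (triMul p q).1 = (triMul q p).1 := add_comm _ _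
    have e2 : (triMul p q).2.1 = (triMul q p).2.1 := add_comm _ _
    simp only [Φ, e1, e2, mul_right_inj] at e
    have := R.C_injective (c := (triMul p q).2.2 + (triMul q p).2.2) (by
      rw [R.C_add, e, ← R.C_add]
      have : (triMul q p).2.2 + (triMul q p).2.2 = 0 := by
        ext <;> exact CharTwo.add_self_eq_zero _
      rw [this]; simp [C, pw_zero])
    ext
    · exact CharTwo.add_eq_zero.1 (congrArg Prod.fst this)
    · exact CharTwo.add_eq_zero.1 (congrArg Prod.snd this)
  obtain ⟨⟨a0, a1⟩, ⟨b0, b1⟩, γ⟩ := p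
  have ha0 : a0 = 0 := by simpa [triMul] using congrArg Prod.fst (key (0, (1, 0), 0))
  have ha1 : a1 = 0 := by simpa [triMul] using congrArg Prod.snd (key (0, (1, 0), 0))
  have hb0 : b0 = 0 := by simpa [triMul] using congrArg Prod.fst (key ((1, 0), 0, 0))
  have hb1 : b1 = 0 := by simpa [triMul] using congrArg Prod.snd (key ((1, 0), 0, 0))
  subst ha0 ha1 hb0 hb1
  have hγ : R.C γ = 1 := by simpa [Φ, A, B, pw_zero] using h
  rw [R.C_injective hγ]
  rfl

theorem Φ_injective : Function.Injective R.Φ := by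
  intro p q h
  apply eq_of_triInv_mul
  apply R.eq_zero_of_Φ
  rw [← R.Φ_mul, ← h, R.Φ_mul, triInv_mul, R.Φ_zero]

theorem Φ_bijective [Finite T] (hT : Nat.card T = 64) : Function.Bijective R.Φ :=
  R.Φ_injective.bijective_of_nat_card_le (by rw [hT, card_tri])

/-- Two groups of order 64 with these relations are isomorphic. -/
noncomputable def equiv [Finite T] (hT : Nat.card T = 64) {T' : Type*} [Group T'] [Finite T']
    (R' : Rel T') (hT' : Nat.card T' = 64) : T ≃* T' :=
  let e := Equiv.ofBijective _ (R.Φ_bijective hT)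
  let e' := Equiv.ofBijective _ (R'.Φ_bijective hT')
  { e.symm.trans e' with
    map_mul' := fun x y => by
      obtain ⟨p, rfl⟩ := e.surjective x
      obtain ⟨q, rfl⟩ := e.surjective y
      have h : e p * e q = e (triMul p q) := R.Φ_mul p q
      simp only [Equiv.toFun_as_coe, h, Equiv.trans_apply, Equiv.symm_apply_apply]
      exact (R'.Φ_mul p q).symm }

/-- The subgroup generated by the six generators. -/
def range : Subgroup T where
  carrier := Set.range R.Φ
  one_mem' := ⟨0, R.Φ_zero⟩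
  mul_mem' := by rintro _ _ ⟨p, rfl⟩ ⟨q, rfl⟩; exact ⟨_, (R.Φ_mul p q).symm⟩
  inv_mem' := by
    rintro _ ⟨p, rfl⟩
    exact ⟨triInv p, eq_inv_of_mul_eq_one_left (by rw [R.Φ_mul, triInv_mul, R.Φ_zero])⟩

theorem card_range : Nat.card R.range = 64 :=
  (Nat.card_congr (Equiv.ofInjective _ R.Φ_injective).symm).trans card_tri

/-- The generators inside their subgroup. -/
def restrict : Rel R.range where
  a := ⟨R.a, ((1, 0), 0, 0), by simp [Φ, A, B, C, pw_zero, pw_one]⟩
  a' := ⟨R.a', ((0, 1), 0, 0), by simp [Φ, A, B, C, pw_zero, pw_one]⟩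
  b := ⟨R.b, (0, (1, 0), 0), by simp [Φ, A, B, C, pw_zero, pw_one]⟩
  b' := ⟨R.b', (0, (0, 1), 0), by simp [Φ, A, B, C, pw_zero, pw_one]⟩
  z := ⟨R.z, (0, 0, (1, 0)), by simp [Φ, A, B, C, pw_zero, pw_one]⟩
  z' := ⟨R.z', (0, 0, (0, 1)), by simp [Φ, A, B, C, pw_zero, pw_one]⟩
  ha := Subtype.ext R.ha
  ha' := Subtype.ext R.ha'
  hb := Subtype.ext R.hb
  hb' := Subtype.ext R.hb'
  hz := Subtype.ext R.hz
  hz' := Subtype.ext R.hz'
  haa := Subtype.ext R.haa
  hbb := Subtype.ext R.hbb
  hcz := fun g hg => Subtype.ext (R.hcz g.1 (by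
    simpa [Subtype.ext_iff] using hg))
  hcz' := fun g hg => Subtype.ext (R.hcz' g.1 (by
    simpa [Subtype.ext_iff] using hg))
  hab := Subtype.ext R.hab
  hab' := Subtype.ext R.hab'
  ha'b := Subtype.ext R.ha'b
  ha'b' := Subtype.ext R.ha'b'
  z_ne := fun h => R.z_ne (congrArg Subtype.val h)
  z'_ne := fun h => R.z'_ne (congrArg Subtype.val h)
  zz_ne := fun h => R.zz_ne (congrArg Subtype.val h)

end Rel

open Matrix in
/-- A group of order 64 with these relations is a Sylow 2-subgroup of `PSL₃(4)`. -/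
theorem exists_sylow_equiv [Finite T] (hT : Nat.card T = 64) (R : Rel T) :
    ∃ (F : Type) (_ : Field F) (_ : Fintype F), Fintype.card F = 4 ∧
      ∃ S : Sylow 2 (Matrix.ProjectiveSpecialLinearGroup (Fin 3) F),
        Nonempty (T ≃* ↥(S : Subgroup (Matrix.ProjectiveSpecialLinearGroup (Fin 3) F))) := by
  classical
  have hF : Nat.card (GaloisField 2 2) = 4 := by rw [GaloisField.card 2 2 (by norm_num)]; norm_num
  letI fF : Fintype (GaloisField 2 2) := Fintype.ofFinite _
  have hF' : Fintype.card (GaloisField 2 2) = 4 := by rw [← Nat.card_eq_fintype_card, hF]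
  refine ⟨GaloisField 2 2, inferInstance, fF, hF', ?_⟩
  obtain ⟨w, hw0, hw1⟩ : ∃ w : GaloisField 2 2, w ≠ 0 ∧ w ≠ 1 := by
    by_contra h
    push Not at h
    have : Fintype.card (GaloisField 2 2) ≤ 2 := by
      rw [← Finset.card_univ]
      refine (Finset.card_le_card (fun a _ => ?_)).trans
        (Finset.card_le_two (a := (0 : GaloisField 2 2)) (b := 1))
      rcases eq_or_ne a 0 with ha | ha
      · simp [ha]
      · simp [h a ha]
    omega
  have h2 : (2 : GaloisField 2 2) = 0 := by exact_mod_cast CharP.cast_eq_zero (GaloisField 2 2) 2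
  have hw : w * w + w + 1 = 0 := by
    have h4 : w ^ 4 = w := hF' ▸ FiniteField.pow_card w
    have h : (w - 1) * w * (w * w + w + 1) = 0 := by linear_combination h4
    exact (mul_eq_zero.1 h).resolve_left (mul_ne_zero (sub_ne_zero.2 hw1) hw0)
  let t01 : GaloisField 2 2 → Matrix.SpecialLinearGroup (Fin 3) (GaloisField 2 2) := fun c =>
    ⟨!![1, c, 0; 0, 1, 0; 0, 0, 1], by simp [Matrix.det_fin_three]⟩
  let t12 : GaloisField 2 2 → Matrix.SpecialLinearGroup (Fin 3) (GaloisField 2 2) := fun c =>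
    ⟨!![1, 0, 0; 0, 1, c; 0, 0, 1], by simp [Matrix.det_fin_three]⟩
  let t02 : GaloisField 2 2 → Matrix.SpecialLinearGroup (Fin 3) (GaloisField 2 2) := fun c =>
    ⟨!![1, 0, c; 0, 1, 0; 0, 0, 1], by simp [Matrix.det_fin_three]⟩
  have add01 : ∀ c d, t01 c * t01 d = t01 (c + d) := fun c d => by
    ext i j; fin_cases i <;> fin_cases j <;> simp only [Matrix.SpecialLinearGroup.coe_mul] <;> simp [t01, Matrix.mul_apply, Fin.sum_univ_three] <;> ring
  have add12 : ∀ c d, t12 c * t12 d = t12 (c + d) := fun c d => by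
    ext i j; fin_cases i <;> fin_cases j <;> simp only [Matrix.SpecialLinearGroup.coe_mul] <;> simp [t12, Matrix.mul_apply, Fin.sum_univ_three] <;> ring
  have add02 : ∀ c d, t02 c * t02 d = t02 (c + d) := fun c d => by
    ext i j; fin_cases i <;> fin_cases j <;> simp only [Matrix.SpecialLinearGroup.coe_mul] <;> simp [t02, Matrix.mul_apply, Fin.sum_univ_three] <;> ring
  have c1 : ∀ c d, t02 c * t01 d = t01 d * t02 c := fun c d => by
    ext i j; fin_cases i <;> fin_cases j <;> simp only [Matrix.SpecialLinearGroup.coe_mul] <;> simp [t01, t02, Matrix.mul_apply, Fin.sum_univ_three]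
  have c2 : ∀ c d, t02 c * t12 d = t12 d * t02 c := fun c d => by
    ext i j; fin_cases i <;> fin_cases j <;> simp only [Matrix.SpecialLinearGroup.coe_mul] <;> simp [t12, t02, Matrix.mul_apply, Fin.sum_univ_three]
  have cm : ∀ c d, t01 c * t12 d = t02 (c * d) * (t12 d * t01 c) := fun c d => by
    ext i j; fin_cases i <;> fin_cases j <;>
      simp only [Matrix.SpecialLinearGroup.coe_mul] <;> simp [t01, t12, t02, Matrix.mul_apply, Fin.sum_univ_three]
  have tz : t01 0 = 1 ∧ t12 0 = 1 ∧ t02 0 = 1 := by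
    refine ⟨?_, ?_, ?_⟩ <;>
      (ext i j; fin_cases i <;> fin_cases j <;> simp [t01, t12, t02, Matrix.one_apply])
  have hww : ∀ c : GaloisField 2 2, c + c = 0 := fun c => by linear_combination c * h2
  let π := QuotientGroup.mk' (Subgroup.center (Matrix.SpecialLinearGroup (Fin 3) (GaloisField 2 2)))
  have hne : ∀ c, c ≠ 0 → π (t02 c) ≠ 1 := by
    intro c hc h
    have hz := (QuotientGroup.eq_one_iff _).1 h
    rw [Matrix.SpecialLinearGroup.mem_center_iff] at hz
    obtain ⟨r, -, hr⟩ := hz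
    have := congrArg (fun M : Matrix (Fin 3) (Fin 3) (GaloisField 2 2) => M 0 2) hr
    simp [t02, Matrix.scalar_apply] at this
    exact hc this.symm
  let R' : Rel (Matrix.ProjectiveSpecialLinearGroup (Fin 3) (GaloisField 2 2)) :=
    { a := π (t01 1), a' := π (t01 w), b := π (t12 1), b' := π (t12 w)
      z := π (t02 1), z' := π (t02 w)
      ha := by rw [← map_mul, add01, hww, tz.1, map_one]
      ha' := by rw [← map_mul, add01, hww, tz.1, map_one]
      hb := by rw [← map_mul, add12, hww, tz.2.1, map_one]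
      hb' := by rw [← map_mul, add12, hww, tz.2.1, map_one]
      hz := by rw [← map_mul, add02, hww, tz.2.2, map_one]
      hz' := by rw [← map_mul, add02, hww, tz.2.2, map_one]
      haa := by rw [Commute, SemiconjBy, ← map_mul, ← map_mul, add01, add01, add_comm]
      hbb := by rw [Commute, SemiconjBy, ← map_mul, ← map_mul, add12, add12, add_comm]
      hcz := by
        rintro g (rfl | rfl | rfl | rfl | rfl | rfl) <;>
          simp only [Commute, SemiconjBy, ← map_mul, c1, c2, add02] <;>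
          rw [add_comm]
      hcz' := by
        rintro g (rfl | rfl | rfl | rfl | rfl | rfl) <;>
          simp only [Commute, SemiconjBy, ← map_mul, c1, c2, add02] <;>
          rw [add_comm]
      hab := by rw [← map_mul, ← map_mul, ← map_mul, cm, mul_one]
      hab' := by rw [← map_mul, ← map_mul, ← map_mul, cm, one_mul]
      ha'b := by rw [← map_mul, ← map_mul, ← map_mul, cm, mul_one]
      ha'b' := by
        rw [← map_mul, ← map_mul, ← map_mul, ← map_mul, cm, add02,
          show w * w = 1 + w by linear_combination hw - (1 + w) * h2]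
      z_ne := hne 1 one_ne_zero
      z'_ne := hne w hw0
      zz_ne := fun h => hne (1 + w) (fun h0 => hw1 (by linear_combination h0 - h2)) (by
        rw [← add02, map_mul, h, ← map_mul, add02, hww, tz.2.2, map_one]) }
  have hcard : Nat.card (Matrix.ProjectiveSpecialLinearGroup (Fin 3) (GaloisField 2 2)) = 20160 := by
    rw [GLOrder.card_PSL, GLOrder.card_SL, hF]
    simp only [Fintype.card_fin, show Finset.Ico 1 3 = {1, 2} from rfl]
    decide
  have hidx : R'.range.index = 315 := by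
    have := R'.range.card_mul_index
    rw [R'.card_range, hcard] at this
    omega
  refine ⟨(IsPGroup.of_card (n := 6) R'.card_range).toSylow (by rw [hidx]; norm_num), ?_⟩
  exact ⟨R.equiv hT R'.restrict R'.card_range⟩

/-- A fixed point free automorphism of order 3 on a non-abelian group of order 64. -/
structure FPF (ρ : MulAut T) : Prop where
  card : Nat.card T = 64
  nonab : ¬ IsMulCommutative T
  order : orderOf ρ = 3
  fix : ∀ y : T, ρ y = y → y = 1

namespace FPF

variable [Finite T] {ρ : MulAut T} (h : FPF ρ)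

include h

theorem pow_three (y : T) : ρ (ρ (ρ y)) = y := by
  have : ρ ^ 3 = 1 := h.order ▸ pow_orderOf_eq_one ρ
  exact DFunLike.congr_fun this y

theorem prod (x : T) : x * ρ x * ρ (ρ x) = 1 := by
  have hinj : Function.Injective fun y : T => y⁻¹ * ρ y := by
    intro a b hab
    have e : b * a⁻¹ = ρ b * (ρ a)⁻¹ := by
      have h1 : a⁻¹ * ρ a = b⁻¹ * ρ b := hab
      rw [show ρ a = a * (b⁻¹ * ρ b) by rw [← h1, mul_inv_cancel_left]]
      group
    rw [← map_inv, ← map_mul] at e
    exact (mul_inv_eq_one.1 (h.fix _ e.symm)).symm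
  obtain ⟨y, rfl⟩ := (Finite.injective_iff_surjective.1 hinj) x
  simp only [map_mul, map_inv, h.pow_three]
  group

theorem prod' (x : T) : ρ (ρ x) = (ρ x)⁻¹ * x⁻¹ := by
  rw [← mul_inv_rev]
  exact eq_inv_of_mul_eq_one_right (h.prod x)

theorem comm_rho (x : T) : Commute x (ρ x) := by
  have h1 := h.prod' x⁻¹
  rw [map_inv, map_inv, inv_inv, inv_inv, h.prod' x, mul_inv_rev, inv_inv, inv_inv] at h1
  exact h1

theorem card_inv (K : Subgroup T) (hK : ∀ x ∈ K, ρ x ∈ K) :
    Nat.card K = 1 ∨ Nat.card K = 4 ∨ Nat.card K = 16 ∨ Nat.card K = 64 := by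
  classical
  have : Fact (Nat.Prime 3) := ⟨Nat.prime_three⟩
  have := Fintype.ofFinite K
  let f : K → K := fun w => ⟨ρ w, hK w w.2⟩
  have hf : f^[3 ^ 1] = id := funext fun w => Subtype.ext (h.pow_three w)
  have hm := Equiv.Perm.card_fixedPoints_modEq (f := f) (p := 3) (n := 1) hf
  have h1 : Nat.card (Function.fixedPoints f) = 1 := by
    rw [Nat.card_eq_one_iff_unique]
    refine ⟨⟨fun a b => Subtype.ext (Subtype.ext ?_)⟩, ⟨⟨1, Subtype.ext (map_one ρ)⟩⟩⟩
    rw [h.fix _ (congrArg Subtype.val a.2), h.fix _ (congrArg Subtype.val b.2)]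
  rw [← Nat.card_eq_fintype_card, ← Nat.card_eq_fintype_card, h1] at hm
  have hd : Nat.card K ∣ 2 ^ 6 := by
    have := K.card_subgroup_dvd_card
    rwa [h.card] at this
  obtain ⟨k, hk, hk'⟩ := (Nat.dvd_prime_pow Nat.prime_two).1 hd
  rw [hk'] at hm ⊢
  unfold Nat.ModEq at hm
  interval_cases k <;> simp_all

theorem rho_center {x : T} (hx : x ∈ Subgroup.center T) : ρ x ∈ Subgroup.center T := by
  rw [Subgroup.mem_center_iff] at hx ⊢
  intro g
  obtain ⟨g, rfl⟩ := ρ.surjective g
  rw [← map_mul, ← map_mul, hx]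

theorem card_center : Nat.card (Subgroup.center T) = 4 := by
  have : Fact (Nat.Prime 2) := ⟨Nat.prime_two⟩
  have hT : IsPGroup 2 T := IsPGroup.of_card (n := 6) h.card
  have : Nontrivial T := Finite.one_lt_card_iff_nontrivial.1 (by rw [h.card]; norm_num)
  have hnt : Nontrivial (Subgroup.center T) := hT.center_nontrivial
  have hne : Nat.card (Subgroup.center T) ≠ 1 := by
    have := Finite.one_lt_card (α := Subgroup.center T); omega
  rcases h.card_inv _ (fun x hx => h.rho_center hx) with e | e | e | e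
  · exact absurd e hne
  · exact e
  · exfalso
    -- the centre and one element with its image generate
    obtain ⟨y, hy⟩ : ∃ y, y ∉ Subgroup.center T := by
      by_contra hall
      push Not at hall
      rw [Subgroup.eq_top_iff' _ |>.2 hall, Subgroup.card_top, h.card] at e
      omega
    let K := Subgroup.closure ((Subgroup.center T : Set T) ∪ {y, ρ y})
    have hK : IsMulCommutative K := Subgroup.isMulCommutative_closure (by
      rintro a (ha | rfl | rfl) b (hb | rfl | rfl) <;>
        first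
        | rfl
        | exact (Subgroup.mem_center_iff.1 hb _)
        | exact (Subgroup.mem_center_iff.1 ha _).symm
        | exact (h.comm_rho _).eq
        | exact (h.comm_rho _).symm.eq)
    have hsub : ∀ z ∈ K, ρ z ∈ K := by
      intro z hz
      have : K.map ρ.toMonoidHom ≤ K := by
        rw [MonoidHom.map_closure, Subgroup.closure_le]
        rintro _ ⟨a, (ha | rfl | rfl), rfl⟩
        · exact Subgroup.subset_closure (Or.inl (h.rho_center ha))
        · exact Subgroup.subset_closure (Or.inr (Or.inr rfl))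
        · change ρ (ρ y) ∈ K
          rw [h.prod' y]
          exact K.mul_mem (K.inv_mem (Subgroup.subset_closure (Or.inr (Or.inr rfl))))
            (K.inv_mem (Subgroup.subset_closure (Or.inr (Or.inl rfl))))
      exact this ⟨z, hz, rfl⟩
    have hlt : Subgroup.center T < K := lt_of_le_of_ne
      (fun a ha => Subgroup.subset_closure (Or.inl ha))
      (fun he => hy (he ▸ Subgroup.subset_closure (Or.inr (Or.inl rfl))))
    have hc := Set.ncard_lt_ncard (SetLike.coe_ssubset_coe.2 hlt)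
    rw [← Nat.card_coe_set_eq, ← Nat.card_coe_set_eq] at hc
    simp only [SetLike.coe_sort_coe] at hc
    rw [e] at hc
    rcases h.card_inv K hsub with e' | e' | e' | e' <;> try omega
    have htop : K = ⊤ := Subgroup.eq_top_of_card_eq _ (by rw [e', h.card])
    exact h.nonab ⟨⟨fun a b => congrArg Subtype.val
      (hK.1.1 ⟨a, htop ▸ Subgroup.mem_top a⟩ ⟨b, htop ▸ Subgroup.mem_top b⟩)⟩⟩
  · refine absurd ⟨⟨fun a b => ?_⟩⟩ h.nonab
    have htop : Subgroup.center T = ⊤ := Subgroup.eq_top_of_card_eq _ (by rw [e, h.card])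
    exact Subgroup.mem_center_iff.1 (htop ▸ Subgroup.mem_top b) a

theorem sq_center {z : T} (hz : z ∈ Subgroup.center T) : z * z = 1 := by
  by_contra hne
  have hd : orderOf z ∣ 2 ^ 2 := by
    rw [← Subgroup.orderOf_mk z hz, show 2 ^ 2 = 4 from rfl, ← h.card_center]
    exact orderOf_dvd_natCard _
  have h4 : z ^ 4 = 1 := orderOf_dvd_iff_pow_eq_one.1 hd
  obtain ⟨k, hk, hk'⟩ := (Nat.dvd_prime_pow Nat.prime_two).1 hd
  have ho : orderOf z = 4 := by
    interval_cases k
    · have hz1 : z = 1 := orderOf_eq_one_iff.1 (by simpa using hk')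
      exact absurd (by rw [hz1, mul_one]) hne
    · exact absurd (by rw [← pow_two, ← (show 2 ^ 1 = 2 from rfl), ← hk', pow_orderOf_eq_one]) hne
    · simpa using hk'
  have he : Subgroup.zpowers z = Subgroup.center T := Subgroup.eq_of_le_of_card_ge
    (Subgroup.zpowers_le.2 hz) (by rw [h.card_center, Nat.card_zpowers, ho])
  obtain ⟨m, hm⟩ := Subgroup.mem_zpowers_iff.1 (he ▸ h.rho_center hz : ρ z ∈ Subgroup.zpowers z)
  -- the square of `z` is fixed
  have h2 : ρ (z * z) = z * z := by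
    rw [map_mul, ← hm, ← zpow_add]
    rcases Int.emod_two_eq m with h0 | h0
    · exfalso
      have : ρ (z * z) = 1 := by
        obtain ⟨j, rfl⟩ : ∃ j, m = 2 * j := ⟨m / 2, by omega⟩
        rw [map_mul, ← hm, ← zpow_add, show 2 * j + 2 * j = ((4 : ℕ) : ℤ) * j by push_cast; ring,
          zpow_mul, zpow_natCast, h4, one_zpow]
      exact hne ((MulEquiv.map_eq_one_iff ρ).1 this)
    · obtain ⟨j, rfl⟩ : ∃ j, m = 2 * j + 1 := ⟨m / 2, by omega⟩
      rw [show 2 * j + 1 + (2 * j + 1) = ((4 : ℕ) : ℤ) * j + ((2 : ℕ) : ℤ) by push_cast; ring,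
        zpow_add, zpow_mul, zpow_natCast, zpow_natCast, h4, one_zpow, one_mul, pow_two]
  exact hne (h.fix _ h2)

theorem commutator_mem (a b : T) : ⁅a, b⁆ ∈ Subgroup.center T := by
  -- the quotient by the centre is abelian
  set Q := T ⧸ Subgroup.center T
  have hQ : Nat.card Q = 16 := by
    change Nat.card (T ⧸ Subgroup.center T) = 16
    have := (Subgroup.center T).card_mul_index
    rw [h.card_center, h.card, Subgroup.index_eq_card] at this
    omega
  let r : Q →* Q := QuotientGroup.map _ _ ρ.toMonoidHom (fun x hx => h.rho_center hx)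
  have hprod : ∀ q : Q, q * r q * r (r q) = 1 := by
    rintro ⟨x⟩
    exact congrArg (QuotientGroup.mk' (Subgroup.center T)) (h.prod x)
  have hcomm : ∀ q : Q, Commute q (r q) := by
    rintro ⟨x⟩
    exact (h.comm_rho x).map (QuotientGroup.mk' (Subgroup.center T))
  have hfix : ∀ q : Q, r q = q → q = 1 := by
    intro q hq
    have h3 := hprod q
    rw [hq, hq] at h3
    have h16 : q ^ 16 = 1 := hQ ▸ pow_card_eq_one'
    calc q = q * (q ^ 16) ^ 2 := by rw [h16]; simp
      _ = (q ^ 3) ^ 11 := by rw [← pow_mul, ← pow_mul, ← pow_succ']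
      _ = 1 := by rw [pow_three', h3, one_pow]
  suffices hall : ∀ p q : Q, p * q = q * p by
    rw [← QuotientGroup.eq_one_iff]
    change ((⁅a, b⁆ : T) : Q) = 1
    rw [← QuotientGroup.mk'_apply, map_commutatorElement]
    exact commutatorElement_eq_one_iff_mul_comm.2 (hall _ _)
  intro p q
  by_contra hne
  have : Fact (Nat.Prime 2) := ⟨Nat.prime_two⟩
  have hQp : IsPGroup 2 Q := IsPGroup.of_card (n := 4) hQ
  have hnt : Nontrivial (Subgroup.center Q) := by
    have : Nontrivial Q := Finite.one_lt_card_iff_nontrivial.1 (by rw [hQ]; norm_num)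
    exact hQp.center_nontrivial
  let Z := (Subgroup.center Q).comap (QuotientGroup.mk' (Subgroup.center T))
  have hrc : ∀ x ∈ Subgroup.center Q, r x ∈ Subgroup.center Q := by
    intro x hx
    rw [Subgroup.mem_center_iff] at hx ⊢
    intro g
    obtain ⟨g, rfl⟩ : ∃ g', r g' = g := by
      obtain ⟨g, rfl⟩ := QuotientGroup.mk'_surjective _ g
      exact ⟨QuotientGroup.mk' _ (ρ.symm g), congrArg (QuotientGroup.mk' _) (ρ.apply_symm_apply g)⟩
    rw [← map_mul, ← map_mul, hx]
  have hZcard : Nat.card Z = Nat.card (Subgroup.center Q) * 4 := by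
    have h1 := Z.card_mul_index
    rw [Subgroup.index_comap_of_surjective _ (QuotientGroup.mk'_surjective _), h.card] at h1
    have h2 := (Subgroup.center Q).card_mul_index
    rw [hQ] at h2
    have hpos : 0 < (Subgroup.center Q).index := Nat.pos_of_ne_zero Subgroup.index_ne_zero_of_finite
    nlinarith
  have hc1 : 1 < Nat.card (Subgroup.center Q) := Finite.one_lt_card
  have hle : Nat.card (Subgroup.center Q) ≤ 4 := by
    by_contra hgt
    rcases h.card_inv Z (fun x hx => hrc _ hx) with e | e | e | e <;> rw [hZcard] at e <;> try omega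
    have htop : Subgroup.center Q = ⊤ := Subgroup.eq_top_of_card_eq _ (by rw [hQ]; omega)
    exact hne (Subgroup.mem_center_iff.1 (htop ▸ Subgroup.mem_top q) p)
  have hc4 : Nat.card (Subgroup.center Q) = 4 := by
    rcases h.card_inv Z (fun x hx => hrc _ hx) with e | e | e | e <;> rw [hZcard] at e <;> omega
  obtain ⟨y, hy⟩ : ∃ y, y ∉ Subgroup.center Q := by
    by_contra hall
    push Not at hall
    exact hne (Subgroup.mem_center_iff.1 (hall q) p)
  let K := Subgroup.closure ((Subgroup.center Q : Set Q) ∪ {y, r y})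
  have hK : IsMulCommutative K := Subgroup.isMulCommutative_closure (by
    rintro a (ha | rfl | rfl) b (hb | rfl | rfl) <;>
      first
      | rfl
      | exact (Subgroup.mem_center_iff.1 hb _)
      | exact (Subgroup.mem_center_iff.1 ha _).symm
      | exact (hcomm _).eq
      | exact (hcomm _).symm.eq)
  let L := K.comap (QuotientGroup.mk' (Subgroup.center T))
  have hsub : ∀ z ∈ L, ρ z ∈ L := by
    intro z hz
    have : K.map r ≤ K := by
      rw [MonoidHom.map_closure, Subgroup.closure_le]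
      rintro _ ⟨a, (ha | rfl | rfl), rfl⟩
      · exact Subgroup.subset_closure (Or.inl (hrc _ ha))
      · exact Subgroup.subset_closure (Or.inr (Or.inr rfl))
      · change r (r y) ∈ K
        rw [eq_inv_of_mul_eq_one_right (hprod y)]
        exact K.inv_mem (K.mul_mem (Subgroup.subset_closure (Or.inr (Or.inl rfl)))
          (Subgroup.subset_closure (Or.inr (Or.inr rfl))))
    exact this ⟨_, hz, rfl⟩
  have hlt : Z < L := lt_of_le_of_ne
    (fun a ha => Subgroup.subset_closure (Or.inl ha))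
    (fun he => hy (by
      obtain ⟨y', hy'⟩ := QuotientGroup.mk'_surjective (Subgroup.center T) y
      have hL : y' ∈ L := by
        change QuotientGroup.mk' _ y' ∈ K
        rw [hy']; exact Subgroup.subset_closure (Or.inr (Or.inl rfl))
      rw [← he] at hL
      exact hy' ▸ hL))
  have hlt' := Set.ncard_lt_ncard (SetLike.coe_ssubset_coe.2 hlt)
  rw [← Nat.card_coe_set_eq, ← Nat.card_coe_set_eq] at hlt'
  simp only [SetLike.coe_sort_coe] at hlt'
  rw [hZcard, hc4] at hlt'
  rcases h.card_inv L hsub with e | e | e | e <;> try omega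
  have htop : L = ⊤ := Subgroup.eq_top_of_card_eq _ (by rw [e, h.card])
  obtain ⟨p', rfl⟩ := QuotientGroup.mk'_surjective (Subgroup.center T) p
  obtain ⟨q', rfl⟩ := QuotientGroup.mk'_surjective (Subgroup.center T) q
  exact hne (congrArg Subtype.val
    (hK.1.1 ⟨_, show p' ∈ L from htop ▸ Subgroup.mem_top p'⟩
      ⟨_, show q' ∈ L from htop ▸ Subgroup.mem_top q'⟩))

theorem comm_mul_left (a b c : T) : ⁅a * b, c⁆ = ⁅a, c⁆ * ⁅b, c⁆ := by
  have h1 := Subgroup.mem_center_iff.1 (h.commutator_mem b c) a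
  calc ⁅a * b, c⁆ = a * ⁅b, c⁆ * (c * a⁻¹ * c⁻¹) := by
        simp only [commutatorElement_def]; group
    _ = ⁅b, c⁆ * a * (c * a⁻¹ * c⁻¹) := by rw [h1]
    _ = ⁅b, c⁆ * ⁅a, c⁆ := by simp only [commutatorElement_def]; group
    _ = _ := (Subgroup.mem_center_iff.1 (h.commutator_mem b c) _).symm

theorem comm_mul_right (a b c : T) : ⁅a, b * c⁆ = ⁅a, b⁆ * ⁅a, c⁆ := by
  have h1 := Subgroup.mem_center_iff.1 (h.commutator_mem a c) b
  calc ⁅a, b * c⁆ = a * b * a⁻¹ * ⁅a, c⁆ * b⁻¹ := by simp only [commutatorElement_def]; group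
    _ = a * b * a⁻¹ * b⁻¹ * ⁅a, c⁆ := by
        rw [mul_assoc _ ⁅a, c⁆, ← Subgroup.mem_center_iff.1 (h.commutator_mem a c) b⁻¹]; group
    _ = _ := by simp only [commutatorElement_def]

theorem comm_symm (a b : T) : ⁅b, a⁆ = ⁅a, b⁆ := by
  rw [← commutatorElement_inv]
  exact inv_eq_of_mul_eq_one_right (h.sq_center (h.commutator_mem a b))

theorem sq_mem (x : T) : x * x ∈ Subgroup.center T := by
  rw [Subgroup.mem_center_iff]
  intro g
  exact commutatorElement_eq_one_iff_mul_comm.1 (by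
    rw [h.comm_mul_right, h.sq_center (h.commutator_mem g x)])

/-- The commutators of a pair and of its images. -/
theorem comm_one (u v : T) :
    ⁅u, ρ v⁆ = ρ (ρ ⁅u, v⁆) ∧ ⁅ρ u, v⁆ = ρ (ρ ⁅u, v⁆) := by
  set p := ⁅u, v⁆ with hp
  set q := ⁅u, ρ v⁆ with hq
  have hpZ := h.commutator_mem u v
  have hqZ := h.commutator_mem u (ρ v)
  rw [← hp] at hpZ
  rw [← hq] at hqZ
  -- `⁅u, ρ v⁆ = ⁅ρ u, v⁆`
  have hsym : ⁅ρ u, v⁆ = q := by
    have h1 : ⁅u * v, ρ (u * v)⁆ = 1 :=
      commutatorElement_eq_one_iff_mul_comm.2 (h.comm_rho _)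
    rw [map_mul, h.comm_mul_left, h.comm_mul_right, h.comm_mul_right,
      commutatorElement_eq_one_iff_mul_comm.2 (h.comm_rho u),
      commutatorElement_eq_one_iff_mul_comm.2 (h.comm_rho v), one_mul, mul_one, ← hq,
      h.comm_symm (ρ u) v] at h1
    calc ⁅ρ u, v⁆ = q * q * ⁅ρ u, v⁆ := by rw [h.sq_center hqZ, one_mul]
      _ = q := by rw [mul_assoc, h1, mul_one]
  -- the row
  have hrow : ⁅u, ρ (ρ v)⁆ = p * q := by
    have h1 := congrArg (fun t => ⁅u, t⁆) (h.prod v)
    simp only [h.comm_mul_right, commutatorElement_one_right, ← hp, ← hq] at h1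
    calc ⁅u, ρ (ρ v)⁆ = (p * q) * (p * q) * ⁅u, ρ (ρ v)⁆ := by
          rw [h.sq_center (Subgroup.mul_mem _ hpZ hqZ), one_mul]
      _ = p * q := by rw [mul_assoc, h1, mul_one]
  have hq2 : q = ρ p * ρ q := by
    rw [← map_mul, ← hrow, map_commutatorElement, h.pow_three, hsym]
  -- `ρ q = ρ p * q`, so `q = ρ² p`
  have hρq : ρ q = ρ p * q := by
    conv_rhs => rw [hq2, ← mul_assoc, h.sq_center (h.rho_center hpZ), one_mul]
  have hfix : ρ (q * ρ (ρ p)) = q * ρ (ρ p) := by
    rw [map_mul, h.pow_three, hρq]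
    have e : ρ (ρ p) = ρ p * p := by
      rw [h.prod' p, inv_eq_of_mul_eq_one_right (h.sq_center (h.rho_center hpZ)),
        inv_eq_of_mul_eq_one_right (h.sq_center hpZ)]
    rw [e, Subgroup.mem_center_iff.1 hqZ (ρ p), mul_assoc]
  have hfin : q = ρ (ρ p) := by
    have h1 := h.fix _ hfix
    calc q = q * ρ (ρ p) * ρ (ρ p) := by
          rw [mul_assoc, h.sq_center (h.rho_center (h.rho_center hpZ)), mul_one]
      _ = ρ (ρ p) := by rw [h1, one_mul]
  exact ⟨hfin, hsym.trans hfin⟩

theorem swap (u v : T) : u * v = ⁅u, v⁆ * (v * u) := by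
  rw [commutatorElement_def]; group

theorem three_ne {z : T} (hz : z ≠ 1) : ρ z ≠ z ∧ ρ (ρ z) ≠ z ∧ ρ z ≠ 1 ∧ ρ (ρ z) ≠ 1 := by
  refine ⟨fun e => hz (h.fix _ e), fun e => hz (h.fix _ ?_), ?_, ?_⟩
  · conv_rhs => rw [← h.pow_three z, ← congrArg ρ e.symm]
  · exact fun e => hz ((MulEquiv.map_eq_one_iff ρ).1 e)
  · exact fun e => hz ((MulEquiv.map_eq_one_iff ρ).1 ((MulEquiv.map_eq_one_iff ρ).1 e))

/-- Two non-commuting involutions give the relations of a Sylow 2-subgroup of `PSL₃(4)`. -/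
def rel {u v : T} (hu : u * u = 1) (hv : v * v = 1) (huv : u * v ≠ v * u) : Rel T :=
  have hp : ⁅u, v⁆ ≠ 1 := fun e => huv (commutatorElement_eq_one_iff_mul_comm.1 e)
  have hpZ := h.commutator_mem u v
  have hqZ := h.rho_center (h.rho_center hpZ)
  { a := u, a' := ρ u, b := v, b' := ρ v, z := ⁅u, v⁆, z' := ρ (ρ ⁅u, v⁆)
    ha := hu, ha' := by rw [← map_mul, hu, map_one]
    hb := hv, hb' := by rw [← map_mul, hv, map_one]
    hz := h.sq_center hpZ
    hz' := h.sq_center hqZ
    haa := h.comm_rho u, hbb := h.comm_rho v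
    hcz := fun g _ => (Subgroup.mem_center_iff.1 hpZ g).symm
    hcz' := fun g _ => (Subgroup.mem_center_iff.1 hqZ g).symm
    hab := h.swap u v
    hab' := by rw [h.swap u (ρ v), (h.comm_one u v).1]
    ha'b := by rw [h.swap (ρ u) v, (h.comm_one u v).2]
    ha'b' := by
      rw [h.swap (ρ u) (ρ v), ← map_commutatorElement]
      congr 1
      have := h.prod' ⁅u, v⁆
      calc ρ ⁅u, v⁆ = ρ (ρ ⁅u, v⁆) * (ρ (ρ ⁅u, v⁆) * ρ ⁅u, v⁆) := by
            rw [← mul_assoc, h.sq_center hqZ, one_mul]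
        _ = ρ (ρ ⁅u, v⁆) * ⁅u, v⁆ := by
            congr 1
            rw [this, inv_eq_of_mul_eq_one_right (h.sq_center (h.rho_center hpZ)),
              inv_eq_of_mul_eq_one_right (h.sq_center hpZ),
              Subgroup.mem_center_iff.1 hpZ (ρ ⁅u, v⁆), mul_assoc,
              h.sq_center (h.rho_center hpZ), mul_one]
        _ = _ := (Subgroup.mem_center_iff.1 hqZ _).symm
    z_ne := hp
    z'_ne := (h.three_ne hp).2.2.2
    zz_ne := fun e => (h.three_ne hp).2.1 e.symm }

end FPF

end Cfsg.Agent.SylowL34
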