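import Cfsg.Agent.Lib.SylowL34.Basic

/-!
# An automorphism inverting a fixed point free automorphism of order 3 on a group of order 64

* `Inv.card_fixed`: the fixed subgroup of `x` has order 8.
* `Inv.exists_pair`: there are two non-commuting involutions.
-/

set_option autoImplicit false
set_option linter.unusedSectionVars false

open scoped commutatorElement

namespace Cfsg.Agent.SylowL34

variable {T : Type*} [Group T] [Finite T]

/-- `x` is an automorphism of order at most two inverting `ρ`. -/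
structure Inv (ρ x : MulAut T) : Prop extends FPF ρ where
  sq : ∀ y : T, x (x y) = y
  inv : ∀ y : T, x (ρ y) = ρ (ρ (x y))

namespace FPF

variable {ρ : MulAut T} (h : FPF ρ)
include h

theorem center_cases {z w : T} (hz : z ∈ Subgroup.center T) (hz1 : z ≠ 1)
    (hw : w ∈ Subgroup.center T) : w = 1 ∨ w = z ∨ w = ρ z ∨ w = ρ (ρ z) := by
  classical
  have := Fintype.ofFinite T
  obtain ⟨h1, h2, h3, h4⟩ := h.three_ne hz1
  have hne : ρ z ≠ ρ (ρ z) := fun e => h1 (ρ.injective e).symm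
  let S : Finset T := {1, z, ρ z, ρ (ρ z)}
  have hS : S.card = 4 := by
    simp [S, Finset.card_insert_of_notMem, hne, Ne.symm h1, Ne.symm h2, Ne.symm h3, Ne.symm h4,
      Ne.symm hz1]
  have hsub : S ⊆ (Finset.univ.filter fun t => t ∈ Subgroup.center T) := by
    intro t ht
    simp only [S, Finset.mem_insert, Finset.mem_singleton] at ht
    rcases ht with rfl | rfl | rfl | rfl <;> simp only [Finset.mem_filter, Finset.mem_univ, true_and]
    · exact one_mem _
    · exact hz
    · exact h.rho_center hz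
    · exact h.rho_center (h.rho_center hz)
  have heq := Finset.eq_of_subset_of_card_le hsub (by
    rw [hS, ← Fintype.card_subtype, ← Nat.card_eq_fintype_card]
    exact h.card_center.le)
  have : w ∈ S := heq ▸ Finset.mem_filter.2 ⟨Finset.mem_univ _, hw⟩
  simpa [S] using this

theorem quot_comm (a b : T ⧸ Subgroup.center T) : a * b = b * a := by
  obtain ⟨a⟩ := a
  obtain ⟨b⟩ := b
  apply commutatorElement_eq_one_iff_mul_comm.1
  exact (map_commutatorElement (QuotientGroup.mk' (Subgroup.center T)) a b).symm.trans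
    ((QuotientGroup.eq_one_iff _).2 (h.commutator_mem a b))

theorem quot_sq (a : T ⧸ Subgroup.center T) : a * a = 1 := by
  obtain ⟨a⟩ := a
  exact (QuotientGroup.eq_one_iff _).2 (h.sq_mem a)

theorem quot_prod (a : T) :
    (a : T ⧸ Subgroup.center T) * (ρ a : T) * (ρ (ρ a) : T) = 1 :=
  (QuotientGroup.eq_one_iff _).2 (show a * ρ a * ρ (ρ a) ∈ Subgroup.center T by
    rw [h.prod a]; exact one_mem _)

theorem eq_one_of_quot_fix {a : T}
    (ha : (a : T ⧸ Subgroup.center T) = (ρ a : T)) : a ∈ Subgroup.center T := by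
  rw [← QuotientGroup.eq_one_iff]
  have h2 : (ρ (ρ a) : T ⧸ Subgroup.center T) = (ρ a : T) := by
    rw [QuotientGroup.eq] at ha ⊢
    have := (Subgroup.center T).inv_mem (h.rho_center ha)
    simpa using this
  have := h.quot_prod a
  rwa [h2, ← ha, h.quot_sq, one_mul] at this

end FPF

namespace Inv

variable {ρ x : MulAut T} (h : Inv ρ x)
include h

theorem inv' (y : T) : x (ρ (ρ y)) = ρ (x y) := by
  rw [h.inv, h.inv, h.toFPF.pow_three]

theorem x_center {z : T} (hz : z ∈ Subgroup.center T) : x z ∈ Subgroup.center T := by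
  rw [Subgroup.mem_center_iff] at hz ⊢
  intro g
  obtain ⟨g, rfl⟩ := x.surjective g
  rw [← map_mul, ← map_mul, hz]

theorem exists_fixed_center : ∃ z ∈ Subgroup.center T, z ≠ 1 ∧ x z = z := by
  have : Nontrivial (Subgroup.center T) :=
    Finite.one_lt_card_iff_nontrivial.1 (by rw [h.toFPF.card_center]; norm_num)
  obtain ⟨⟨w, hw⟩, hw1⟩ := exists_ne (1 : Subgroup.center T)
  have hw1' : w ≠ 1 := fun e => hw1 (Subtype.ext e)
  by_cases hx : x w = w
  · exact ⟨w, hw, hw1', hx⟩
  refine ⟨w * x w, Subgroup.mul_mem _ hw (h.x_center hw), fun e => hx ?_, ?_⟩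
  · calc x w = w * w * x w := by rw [h.toFPF.sq_center hw, one_mul]
      _ = w := by rw [mul_assoc, e, mul_one]
  · rw [map_mul, h.sq, (Subgroup.mem_center_iff.1 hw (x w))]

theorem center_fixed_cases {z w : T} (hz : z ∈ Subgroup.center T) (hz1 : z ≠ 1) (hxz : x z = z)
    (hw : w ∈ Subgroup.center T) (hxw : x w = w) : w = 1 ∨ w = z := by
  have hne : ρ (ρ z) ≠ ρ z := fun e => (h.toFPF.three_ne hz1).1 (ρ.injective e)
  rcases h.toFPF.center_cases hz hz1 hw with rfl | rfl | rfl | rfl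
  · exact Or.inl rfl
  · exact Or.inr rfl
  · rw [h.inv, hxz] at hxw; exact absurd hxw hne
  · rw [h.inv', hxz] at hxw; exact absurd hxw.symm hne

/-- The fixed subgroup. -/
def C (_h : Inv ρ x) : Subgroup T where
  carrier := {y | x y = y}
  one_mem' := map_one x
  mul_mem' {a b} ha hb := by
    simp only [Set.mem_ofPred_eq] at ha hb ⊢
    rw [map_mul, ha, hb]
  inv_mem' {a} ha := by
    simp only [Set.mem_ofPred_eq] at ha ⊢
    rw [map_inv, ha]

theorem mem_C {y : T} : y ∈ h.C ↔ x y = y := Iff.rfl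

theorem exists_lift {y : T} (hy : (x y : T ⧸ Subgroup.center T) = y) :
    ∃ c ∈ h.C, (c : T ⧸ Subgroup.center T) = y := by
  obtain ⟨z, hz, hz1, hxz⟩ := h.exists_fixed_center
  have hs : y⁻¹ * x y ∈ Subgroup.center T := QuotientGroup.eq.1 hy.symm
  have hxs : x (y⁻¹ * x y) = y⁻¹ * x y := by
    rw [map_mul, map_inv, h.sq]
    calc (x y)⁻¹ * y = (y⁻¹ * x y)⁻¹ := by group
      _ = _ := inv_eq_of_mul_eq_one_right (h.toFPF.sq_center hs)
  rcases h.center_fixed_cases hz hz1 hxz hs hxs with e | e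
  · exact ⟨y, (inv_mul_eq_one.1 e).symm, rfl⟩
  · refine ⟨y * ρ z, ?_, ?_⟩
    · rw [h.mem_C, map_mul, h.inv, hxz, show x y = y * z from by rw [← e, mul_inv_cancel_left],
        mul_assoc]
      congr 1
      calc z * ρ (ρ z) = ρ z * ρ z * (z * ρ (ρ z)) := by
            rw [h.toFPF.sq_center (h.toFPF.rho_center hz), one_mul]
        _ = ρ z * (z * ρ z * ρ (ρ z)) := by
            rw [Subgroup.mem_center_iff.1 (h.toFPF.rho_center hz) z]; group
        _ = ρ z := by rw [h.toFPF.prod, mul_one]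
    · rw [QuotientGroup.mk_mul, (QuotientGroup.eq_one_iff _).2 (h.toFPF.rho_center hz), mul_one]

theorem x_quot {a b : T} (e : (a : T ⧸ Subgroup.center T) = b) :
    (x a : T ⧸ Subgroup.center T) = x b := by
  rw [QuotientGroup.eq] at e ⊢
  have := h.x_center e
  simpa using this

theorem decomp (w : T) : ∃ c ∈ h.C, ∃ d ∈ h.C,
    (w : T ⧸ Subgroup.center T) = (c : T ⧸ Subgroup.center T) * (ρ d : T) := by
  have hc := h.toFPF.quot_comm
  set v := w * x w with hv
  obtain ⟨d, hd, hdv⟩ := h.exists_lift (y := v) (by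
    rw [hv, map_mul, h.sq, QuotientGroup.mk_mul, QuotientGroup.mk_mul, hc])
  obtain ⟨c, hcC, hcu⟩ := h.exists_lift (y := w * ρ d) (by
    have hp : (v : T ⧸ Subgroup.center T) = (ρ d : T) * (ρ (ρ d) : T) := by
      calc (v : T ⧸ Subgroup.center T)
          = (d : T ⧸ Subgroup.center T) * (d * (ρ d : T) * (ρ (ρ d) : T)) := by
            rw [h.toFPF.quot_prod, mul_one, hdv]
        _ = (d : T ⧸ Subgroup.center T) * d * ((ρ d : T) * (ρ (ρ d) : T)) := by group
        _ = _ := by rw [h.toFPF.quot_sq, one_mul]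
    rw [map_mul, h.inv, h.mem_C.1 hd, QuotientGroup.mk_mul, QuotientGroup.mk_mul]
    rw [hv, QuotientGroup.mk_mul] at hp
    have hxw : (x w : T ⧸ Subgroup.center T) = w * ((ρ d : T) * (ρ (ρ d) : T)) := by
      rw [← hp, ← mul_assoc, h.toFPF.quot_sq, one_mul]
    rw [hxw, mul_assoc, mul_assoc, h.toFPF.quot_sq, mul_one])
  refine ⟨c, hcC, d, hd, ?_⟩
  rw [hcu, QuotientGroup.mk_mul, mul_assoc, h.toFPF.quot_sq, mul_one]

theorem uniq {c d : T} (hc : c ∈ h.C) (hd : d ∈ h.C)
    (e : (c : T ⧸ Subgroup.center T) = (ρ d : T)) : d ∈ Subgroup.center T := by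
  apply h.toFPF.eq_one_of_quot_fix
  have e2 := h.x_quot e
  rw [h.inv, h.mem_C.1 hc, h.mem_C.1 hd] at e2
  have h2 : (ρ (ρ d) : T ⧸ Subgroup.center T) = (ρ d : T) := e2.symm.trans e
  have := h.toFPF.quot_prod d
  rw [h2, mul_assoc, h.toFPF.quot_sq, mul_one] at this
  rw [this]
  have h3 : (ρ d : T ⧸ Subgroup.center T) = 1 :=
    (QuotientGroup.eq_one_iff _).2 (h.toFPF.rho_center ((QuotientGroup.eq_one_iff _).1 this))
  rw [h3]

theorem card_fixed : Nat.card h.C = 8 := by
  set π := QuotientGroup.mk' (Subgroup.center T) with hπ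
  set D := h.C.map π with hD
  have hQ : Nat.card (T ⧸ Subgroup.center T) = 16 := by
    have := (Subgroup.center T).card_mul_index
    rw [h.toFPF.card_center, h.toFPF.card, Subgroup.index_eq_card] at this
    omega
  let rq : T ⧸ Subgroup.center T →* T ⧸ Subgroup.center T :=
    QuotientGroup.map _ _ ρ.toMonoidHom (fun t ht => h.toFPF.rho_center ht)
  have hbij : Function.Bijective (fun p : D × D => (p.1 : T ⧸ Subgroup.center T) * rq p.2) := by
    constructor
    · rintro ⟨⟨a, c, hc, rfl⟩, ⟨b, d, hd, rfl⟩⟩ ⟨⟨a', c', hc', rfl⟩, ⟨b', d', hd', rfl⟩⟩ e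
      change π c * π (ρ d) = π c' * π (ρ d') at e
      have e' : π (c'⁻¹ * c) = π (ρ (d' * d⁻¹)) := by
        rw [map_mul π c'⁻¹ c, map_inv, map_mul ρ, map_inv ρ, map_mul π, map_inv π]
        rw [← mul_inv_eq_iff_eq_mul.2 e.symm] at *
        group
      have hdd := h.uniq (h.C.mul_mem (h.C.inv_mem hc') hc) (h.C.mul_mem hd' (h.C.inv_mem hd)) e'
      have h1 : π d' = π d := by
        have := (QuotientGroup.eq_one_iff _).2 hdd
        rwa [QuotientGroup.mk_mul, QuotientGroup.mk_inv, mul_inv_eq_one] at this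
      have h2 : π (ρ d') = π (ρ d) := congrArg rq h1
      rw [h2, mul_left_inj] at e
      exact Prod.ext (Subtype.ext e) (Subtype.ext h1.symm)
    · intro q
      obtain ⟨w, rfl⟩ := QuotientGroup.mk'_surjective _ q
      obtain ⟨c, hc, d, hd, e⟩ := h.decomp w
      exact ⟨(⟨π c, c, hc, rfl⟩, ⟨π d, d, hd, rfl⟩), e.symm⟩
  have h4 : Nat.card D = 4 := by
    have := Nat.card_congr (Equiv.ofBijective _ hbij)
    rw [Nat.card_prod, hQ] at this
    have hle : Nat.card D ≤ 4 := by nlinarith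
    interval_cases hk : Nat.card D <;> omega
  obtain ⟨z, hz, hz1, hxz⟩ := h.exists_fixed_center
  have hker : Nat.card (π.ker.subgroupOf h.C) = 2 := by
    have hinj := Subgroup.card_map_of_injective (K := π.ker.subgroupOf h.C) h.C.subtype_injective
    rw [← hinj, Subgroup.subgroupOf_map_subtype]
    have : π.ker ⊓ h.C = Subgroup.zpowers z := by
      apply le_antisymm
      · rintro w ⟨hw, hwC⟩
        rw [hπ, QuotientGroup.ker_mk'] at hw
        rcases h.center_fixed_cases hz hz1 hxz hw hwC with rfl | rfl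
        · exact one_mem _
        · exact Subgroup.mem_zpowers _
      · rw [Subgroup.zpowers_le, hπ, QuotientGroup.ker_mk']
        exact ⟨hz, hxz⟩
    rw [this, Nat.card_zpowers]
    exact orderOf_eq_prime (by rw [pow_two, h.toFPF.sq_center hz]) hz1
  have h1 : Nat.card (π.ker.subgroupOf h.C) * π.ker.relIndex h.C = Nat.card h.C :=
    Subgroup.card_mul_index _
  rw [Subgroup.relIndex_ker, hker, ← hD, h4] at h1
  omega

theorem exists_noncomm : ∃ u ∈ h.C, ∃ v ∈ h.C, u * v ≠ v * u := by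
  by_contra hcon
  push Not at hcon
  refine h.nonab ⟨⟨fun a b => ?_⟩⟩
  have hF := h.toFPF
  have key : ∀ w : T, ∃ c ∈ h.C, ∃ d ∈ h.C, ∃ z ∈ Subgroup.center T, w = c * ρ d * z := fun w => by
    obtain ⟨c, hc, d, hd, e⟩ := h.decomp w
    rw [← QuotientGroup.mk_mul] at e
    exact ⟨c, hc, d, hd, (c * ρ d)⁻¹ * w, QuotientGroup.eq.1 e.symm, by group⟩
  obtain ⟨c, hc, d, hd, z, hz, rfl⟩ := key a
  obtain ⟨c', hc', d', hd', z', hz', rfl⟩ := key b
  have hC : ∀ u ∈ h.C, ∀ v ∈ h.C, ⁅u, v⁆ = 1 := fun u hu v hv =>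
    commutatorElement_eq_one_iff_mul_comm.2 (hcon u hu v hv)
  have hz1 : ∀ g : T, ⁅z, g⁆ = 1 ∧ ⁅g, z'⁆ = 1 := fun g =>
    ⟨commutatorElement_eq_one_iff_mul_comm.2 (Subgroup.mem_center_iff.1 hz g).symm,
      commutatorElement_eq_one_iff_mul_comm.2 (Subgroup.mem_center_iff.1 hz' g)⟩
  apply commutatorElement_eq_one_iff_mul_comm.1
  have e1 : ⁅ρ d, ρ d'⁆ = 1 := by rw [← map_commutatorElement, hC d hd d' hd', map_one]
  simp only [hF.comm_mul_left, hF.comm_mul_right, (hz1 _).1, (hz1 _).2, hC c hc c' hc', e1,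
    (hF.comm_one c d').1, (hF.comm_one d c').2, hC c hc d' hd', hC d hd c' hc', map_one, one_mul,
    mul_one]

theorem sq_cases {z u : T} (hz : z ∈ Subgroup.center T) (hz1 : z ≠ 1) (hxz : x z = z)
    (hu : u ∈ h.C) : u * u = 1 ∨ u * u = z :=
  h.center_fixed_cases hz hz1 hxz (h.toFPF.sq_mem u) (by rw [map_mul, h.mem_C.1 hu])

theorem comm_C {u v z : T} (hu : u ∈ h.C) (hv : v ∈ h.C) (huv : u * v ≠ v * u)
    (hz : z ∈ Subgroup.center T) (hz1 : z ≠ 1) (hxz : x z = z) : ⁅u, v⁆ = z :=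
  (h.center_fixed_cases hz hz1 hxz (h.toFPF.commutator_mem u v)
    (by rw [map_commutatorElement, h.mem_C.1 hu, h.mem_C.1 hv])).resolve_left
      fun e => huv (commutatorElement_eq_one_iff_mul_comm.1 e)

theorem mul_self_mul (a b : T) : a * b * (a * b) = a * a * (b * b) * ⁅a, b⁆ := by
  have hF := h.toFPF
  calc a * b * (a * b) = a * (b * a) * b := by group
    _ = a * (⁅b, a⁆ * (a * b)) * b := by rw [← hF.swap]
    _ = ⁅b, a⁆ * (a * a * (b * b)) := by
        rw [← mul_assoc a, Subgroup.mem_center_iff.1 (hF.commutator_mem b a) a]; group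
    _ = _ := by rw [hF.comm_symm, (Subgroup.mem_center_iff.1 (hF.commutator_mem a b) _)]

/-- There are two non-commuting involutions. -/
theorem exists_pair : ∃ u v : T, u * u = 1 ∧ v * v = 1 ∧ u * v ≠ v * u := by
  have hF := h.toFPF
  obtain ⟨u, hu, v, hv, huv⟩ := h.exists_noncomm
  obtain ⟨z, hz, hz1, hxz⟩ := h.exists_fixed_center
  have hc := h.comm_C hu hv huv hz hz1 hxz
  have hzz := hF.sq_center hz
  rcases h.sq_cases hz hz1 hxz hu with hu2 | hu2 <;> rcases h.sq_cases hz hz1 hxz hv with hv2 | hv2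
  · exact ⟨u, v, hu2, hv2, huv⟩
  · refine ⟨u, u * v, hu2, by rw [h.mul_self_mul, hu2, hv2, hc, one_mul, hzz], fun e => huv ?_⟩
    rw [mul_assoc u v u] at e
    exact mul_left_cancel e
  · refine ⟨v, v * u, hv2, by rw [h.mul_self_mul, hu2, hv2, hF.comm_symm, hc, one_mul, hzz],
      fun e => huv ?_⟩
    rw [mul_assoc v u v] at e
    exact (mul_left_cancel e).symm
  · have hρ : ρ v * ρ v = ρ z := by rw [← map_mul, hv2]
    have hρρ : ρ (ρ v) * ρ (ρ v) = ρ (ρ z) := by rw [← map_mul, hρ]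
    have hp := hF.prod z
    have hcomm : ⁅u * ρ v, u * ρ (ρ v)⁆ = z := by
      have e1 : ⁅u, ρ v⁆ = ρ (ρ z) := by rw [(hF.comm_one u v).1, hc]
      have e2 : ⁅u, ρ (ρ v)⁆ = ρ z := by
        rw [(hF.comm_one u (ρ v)).1, e1, hF.pow_three]
      have e3 : ⁅u, u⁆ = 1 := commutatorElement_self u
      rw [hF.comm_mul_left, hF.comm_mul_right, hF.comm_mul_right, e3, one_mul, e2,
        hF.comm_symm u (ρ v), e1,
        commutatorElement_eq_one_iff_mul_comm.2 (hF.comm_rho (ρ v)).eq, mul_one]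
      calc ρ z * ρ (ρ z) = z * z * (ρ z * ρ (ρ z)) := by rw [hzz, one_mul]
        _ = z * (z * ρ z * ρ (ρ z)) := by group
        _ = z := by rw [hp, mul_one]
    refine ⟨u * ρ v, u * ρ (ρ v), ?_, ?_, fun e => hz1 ?_⟩
    · rw [h.mul_self_mul, hu2, hρ, (hF.comm_one u v).1, hc, hp]
    · rw [h.mul_self_mul, hu2, hρρ, (hF.comm_one u (ρ v)).1, (hF.comm_one u v).1, hc, hF.pow_three,
        mul_assoc, ← Subgroup.mem_center_iff.1 (hF.rho_center (hF.rho_center hz)) (ρ z),
        ← mul_assoc, hp]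
    · rw [← hcomm]; exact commutatorElement_eq_one_iff_mul_comm.2 e

end Inv

end Cfsg.Agent.SylowL34
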